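import Mathlib
import Cfsg.Agent.S2946
import Cfsg.Agent.S2950
import Cfsg.Agent.S2951
import Cfsg.Agent.Lib.Helper2.KS12.V4
import Cfsg.Agent.Lib.Helper96.KS12.V3
import Cfsg.Agent.Lib.Helper81.KS12.S2952Core

set_option autoImplicit false

/-!
S2953, case (c) (`T = S`, `N_G(S) ≤ L`): `N_G(J(S)) ≤ L`, so that `L` is a valid `M`.
The point: S2951 gives `Ω₁(Z(S)) = Ω₁(Z(J(S)))`, but when this group has order 4 the hypothesis
`C_G(Ω₁(Z(S))) ≤ N_G(S)` does not bound `N_G(Ω₁(Z(S)))` directly.  (helper77)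
-/

namespace Cfsg.Agent.Lib.Helper77.KS12

open Cfsg

variable {G : Type*} [Group G]

theorem map_conj_eq_of_mem_normalizer' {H : Subgroup G} {g : G}
    (hg : g ∈ Subgroup.normalizer (H : Set G)) : H.map (MulAut.conj g).toMonoidHom = H := by
  ext x
  constructor
  · rintro ⟨h, hh, rfl⟩
    exact (Subgroup.mem_normalizer_iff.mp hg h).mp hh
  · intro hx
    refine ⟨g⁻¹ * x * g, ?_, by simp [mul_assoc]⟩
    have := (Subgroup.mem_normalizer_iff.mp (Subgroup.inv_mem _ hg) x).mp hx
    simpa using this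

theorem mem_normalizer_of_forall_conj_mem' [Finite G] {H : Subgroup G} {g : G}
    (h : ∀ x ∈ H, g * x * g⁻¹ ∈ H) : g ∈ Subgroup.normalizer (H : Set G) := by
  rw [Subgroup.mem_normalizer_iff]
  intro x
  refine ⟨h x, fun hx => ?_⟩
  -- conjugation by `g` is an injective self-map of the finite set `H`, hence surjective
  let f : H → H := fun y => ⟨g * y.1 * g⁻¹, h y.1 y.2⟩
  have hf : Function.Injective f := by
    intro a b hab
    have : g * a.1 * g⁻¹ = g * b.1 * g⁻¹ := congrArg Subtype.val hab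
    exact Subtype.ext (by simpa using this)
  obtain ⟨y, hy⟩ := (Finite.injective_iff_surjective.mp hf) ⟨g * x * g⁻¹, hx⟩
  have : g * y.1 * g⁻¹ = g * x * g⁻¹ := congrArg Subtype.val hy
  have hxy : y.1 = x := by simpa using this
  exact hxy ▸ y.2

theorem eq_of_card_two' [Finite G] {Z : Subgroup G} (h2 : Nat.card ↥Z = 2) {a b : G}
    (ha : a ∈ Z) (hb : b ∈ Z) (ha1 : a ≠ 1) (hb1 : b ≠ 1) : a = b := by
  by_contra hab
  have hinj : Function.Injective (![⟨1, Z.one_mem⟩, ⟨a, ha⟩, ⟨b, hb⟩] : Fin 3 → ↥Z) := by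
    intro i j hij
    fin_cases i <;> fin_cases j <;> simp_all [Subtype.ext_iff] <;> tauto
  have := Nat.card_le_card_of_injective _ hinj
  rw [h2] at this
  simp at this

/-- In the situation of S2953 with `T = S`: if `N_G(S) ≤ L` then `N_G(J(S)) ≤ L`. -/
theorem normalizer_thompson_le_of_normalizer_sylow_le [Finite G]
    (hL : Cfsg.IsCharacteristicTwoType G)
    (hN : ∀ N : Subgroup G, Cfsg.IsTwoLocal N → Group.IsSolvable ↥N)
    (hZ : ∀ S : Sylow 2 G, Subgroup.centralizer (Cfsg.omegaCenterOf (S : Subgroup G) : Set G) ≤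
      Subgroup.normalizer ((S : Subgroup G) : Set G))
    (hO : Cfsg.pCore 2 G = ⊥) (S : Sylow 2 G) (M : Subgroup G) (hM : Cfsg.IsTwoLocal M)
    (hMJ : Subgroup.normalizer (Cfsg.thompsonSubgroupOf 2 (S : Subgroup G) : Set G) ≤ M)
    (hT : (S : Subgroup G) ∈ Cfsg.maxStraddlingTwoSubgroups M)
    (K : Subgroup G) (hK : K ∈ Cfsg.jComponentsOutside M (S : Subgroup G))
    (L : Subgroup G) (hLmax : Cfsg.IsMaximalTwoLocal L)
    (hKL : K ⊔ Cfsg.thompsonSubgroupOf 2 (S : Subgroup G) ≤ L)
    (hNS : Subgroup.normalizer ((S : Subgroup G) : Set G) ≤ L) :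
    Subgroup.normalizer (Cfsg.thompsonSubgroupOf 2 (S : Subgroup G) : Set G) ≤ L := by
  have hU : Cfsg.Agent.Lib.Helper2.KS12.Uniq M :=
    Cfsg.Agent.Lib.Helper2.KS12.uniq_of_s2950 hL hN hZ hO (Cfsg.Agent.S2950.result hL hN hZ hO)
      S M hM hMJ
  obtain ⟨-, hsyl⟩ := Cfsg.Agent.Lib.Helper2.KS12.uniq_facts hU hT hK hLmax hKL
  obtain ⟨-, halt⟩ := Cfsg.Agent.S2951.result hL hN hZ hO S M hM hMJ (S : Subgroup G) hT le_rfl
    K hK L hLmax hKL _ _ rfl rfl
  have hZZ0 : omegaCenterOf (S : Subgroup G) =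
      omegaCenterOf (thompsonSubgroupOf 2 (S : Subgroup G)) := by
    rcases halt with h | h | h
    · exact h.1
    · exact h.1
    · exact h.1
  have hcard : Nat.card ↥(omegaCenterOf (S : Subgroup G)) = 2 ∨
      Nat.card ↥(omegaCenterOf (S : Subgroup G)) = 4 := by
    rw [hZZ0]
    rcases halt with h | h | h
    · exact Or.inl h.2
    · exact Or.inr h.2.1
    · exact Or.inr h.2.1
  -- `N_G(J(S)) ≤ N_G(Z₀)`
  have h1 : Subgroup.normalizer (thompsonSubgroupOf 2 (S : Subgroup G) : Set G) ≤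
      Subgroup.normalizer (omegaCenterOf (S : Subgroup G) : Set G) := by
    intro g hg
    have hmap := map_conj_eq_of_mem_normalizer' hg
    have h := Cfsg.Agent.Lib.Helper81.KS12.omegaCenterOf_map (MulAut.conj g)
      (thompsonSubgroupOf 2 (S : Subgroup G))
    rw [hmap] at h
    rw [hZZ0]
    apply mem_normalizer_of_forall_conj_mem'
    intro x hx
    rw [h]
    exact ⟨x, hx, by simp [MulAut.conj_apply]⟩
  -- `N_G(Z) ≤ L`
  have hZc : omegaCenterOf (S : Subgroup G) ≤
      (S : Subgroup G) ⊓ Subgroup.centralizer ((S : Subgroup G) : Set G) :=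
    Cfsg.Agent.Lib.Helper81.KS12.omegaCenterOf_le_inf _
  have h2 : Subgroup.normalizer (omegaCenterOf (S : Subgroup G) : Set G) ≤ L := by
    intro g hg
    rcases hcard with h2 | h4
    · -- order 2: `g` centralizes `Z`
      apply hNS
      apply hZ S
      rw [Subgroup.mem_centralizer_iff]
      intro x hx
      by_cases hx1 : x = 1
      · subst hx1; simp
      · have hgx : g * x * g⁻¹ ∈ omegaCenterOf (S : Subgroup G) :=
          (Subgroup.mem_normalizer_iff.mp hg x).mp hx
        have hgx1 : g * x * g⁻¹ ≠ 1 := by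
          intro h
          apply hx1
          have : x = g⁻¹ * (g * x * g⁻¹) * g := by group
          rw [this, h]; group
        have := eq_of_card_two' h2 hgx hx hgx1 hx1
        calc x * g = (g * x * g⁻¹) * g := by rw [this]
          _ = g * x := by group
    · -- order 4: a nontrivial `y ∈ Y`
      obtain ⟨hc2, hsup⟩ := Cfsg.Agent.S2946.result hL hN hZ (S : Subgroup G) hT.1.1 hT.1.2.1 K
        hK.1.1 _ rfl
      have hYne : Cfsg.Agent.Lib.Helper2.KS12.YK (S : Subgroup G) K ≠ ⊥ := by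
        intro hbot
        have hbot' : omegaCenterOf (thompsonSubgroupOf 2 (S : Subgroup G)) ⊓
            ((K ⊔ thompsonSubgroupOf 2 (S : Subgroup G)) ⊓ Subgroup.centralizer
              ((K ⊔ thompsonSubgroupOf 2 (S : Subgroup G) : Subgroup G) : Set G)) = ⊥ := hbot
        rw [Cfsg.Agent.Lib.Helper2.KS12.centralizer_union_eq] at hsup
        rw [hbot', bot_sup_eq] at hsup
        rw [hsup, ← hZZ0, h4] at hc2
        omega
      obtain ⟨y, hy1⟩ := (Subgroup.ne_bot_iff_exists_ne_one).mp hYne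
      have hyY' : (y : G) ∈ Cfsg.Agent.Lib.Helper2.KS12.YK (S : Subgroup G) K := y.2
      have hy1' : (y : G) ≠ 1 := fun h => hy1 (Subtype.ext h)
      have hzp : Subgroup.zpowers (y : G) ≤ Cfsg.Agent.Lib.Helper2.KS12.YK (S : Subgroup G) K :=
        (Subgroup.zpowers_le).mpr hyY'
      have hzp1 : Subgroup.zpowers (y : G) ≠ ⊥ := by
        intro h
        exact hy1' ((Subgroup.zpowers_eq_bot).mp h)
      have hCy : ∀ c : G, c * (y : G) = (y : G) * c → c ∈ L := by
        intro c hc
        apply Cfsg.Agent.Lib.Helper2.KS12.normalizer_le_of_le_YK hU hT hK hLmax hKL hzp hzp1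
        rw [Subgroup.mem_normalizer_iff]
        have hcomm : Commute c (y : G) := hc
        intro x
        constructor
        · rintro ⟨n, rfl⟩
          refine ⟨n, ?_⟩
          have := (hcomm.zpow_right n).eq
          simp only
          rw [this]; group
        · rintro ⟨n, hn⟩
          refine ⟨n, ?_⟩
          have h3 := (hcomm.zpow_right n).eq
          simp only at hn
          have : x = c⁻¹ * ((y : G) ^ n) * c := by rw [hn]; group
          show (y : G) ^ n = x
          rw [this, mul_assoc, ← h3]; group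
      -- `y ∈ Z`, `g y g⁻¹ ∈ Z`, so `S` centralizes `g y g⁻¹`
      have hyZ : (y : G) ∈ omegaCenterOf (S : Subgroup G) := by
        rw [hZZ0]; exact hyY'.1
      have hgy : g * (y : G) * g⁻¹ ∈ omegaCenterOf (S : Subgroup G) :=
        (Subgroup.mem_normalizer_iff.mp hg _).mp hyZ
      have hgyc : g * (y : G) * g⁻¹ ∈ Subgroup.centralizer ((S : Subgroup G) : Set G) :=
        (hZc hgy).2
      rw [Subgroup.mem_centralizer_iff] at hgyc
      -- `g⁻¹ S g ≤ L`
      have hSg : (S : Subgroup G).map (MulAut.conj g⁻¹).toMonoidHom ≤ L := by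
        rintro _ ⟨s, hs, rfl⟩
        apply hCy
        have := hgyc s hs
        simp only [MulEquiv.toMonoidHom_eq_coe, MonoidHom.coe_coe, MulAut.conj_apply, inv_inv]
        calc g⁻¹ * s * g * (y : G) = g⁻¹ * (s * (g * (y : G) * g⁻¹)) * g := by group
          _ = g⁻¹ * ((g * (y : G) * g⁻¹) * s) * g := by rw [this]
          _ = (y : G) * (g⁻¹ * s * g) := by group
      have hp : IsPGroup 2 ↥((S : Subgroup G).map (MulAut.conj g⁻¹).toMonoidHom) :=
        S.isPGroup'.map _
      obtain ⟨l, hlL, hle⟩ :=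
        Cfsg.Agent.Lib.Helper96.KS12.exists_conj_le_of_isSylowTwoIn hsyl hp hSg
      have hn : l * g⁻¹ ∈ Subgroup.normalizer ((S : Subgroup G) : Set G) := by
        apply mem_normalizer_of_forall_conj_mem'
        intro s hs
        have : l * (g⁻¹ * s * g) * l⁻¹ ∈ (S : Subgroup G) :=
          hle ⟨g⁻¹ * s * g, ⟨s, hs, by simp [MulAut.conj_apply]⟩, by simp [MulAut.conj_apply]⟩
        have e : l * g⁻¹ * s * (l * g⁻¹)⁻¹ = l * (g⁻¹ * s * g) * l⁻¹ := by group
        rw [e]; exact this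
      have hlg : l * g⁻¹ ∈ L := hNS hn
      have : g = (l * g⁻¹)⁻¹ * l := by group
      rw [this]
      exact L.mul_mem (L.inv_mem hlg) hlL
  exact h1.trans h2

end Cfsg.Agent.Lib.Helper77.KS12
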